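import Mathlib
import Cfsg.Prelude.Def_CaseTheorems
import Cfsg.Prelude.Def_OddOrderLocal
import Cfsg.Prelude.Def_PLocal
import Cfsg.Prelude.Def_Transfer

/-!
# Project BLK (S3888, Blackburn: odd p-groups of rank at most two) -- definitions and basic identities

`rc a b = a⁻¹ b⁻¹ a b` is the RIGHT commutator, so that `b⁻¹ a b = a * rc a b`.
`Base p E z₀` bundles "Setting S" of the plan: `G` a finite `p`-group (`p` odd) of `p`-rank `≤ 2`,
`E` a normal elementary abelian subgroup of order `p²` which is NOT central, `z₀` a generator of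
`Z = E ∩ Z(G)` (of order `p`).
-/

set_option autoImplicit false

namespace Cfsg.Agent.Lib.Helper18.BLK

section
variable {G : Type*} [Group G]

/-- right commutator `a⁻¹ b⁻¹ a b` -/
def rc (a b : G) : G := a⁻¹ * b⁻¹ * a * b

theorem rc_def (a b : G) : rc a b = a⁻¹ * b⁻¹ * a * b := rfl

theorem conj_eq (a b : G) : b⁻¹ * a * b = a * rc a b := by
  unfold rc; group

theorem rc_eq_one_iff (a b : G) : rc a b = 1 ↔ a * b = b * a := by
  unfold rc
  constructor
  · intro h
    have : a⁻¹ * b⁻¹ * a * b = 1 := h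
    calc a * b = b * a * (a⁻¹ * b⁻¹ * a * b) := by group
      _ = b * a := by rw [this, mul_one]
  · intro h
    calc a⁻¹ * b⁻¹ * a * b = a⁻¹ * b⁻¹ * (a * b) := by group
      _ = a⁻¹ * b⁻¹ * (b * a) := by rw [h]
      _ = 1 := by group

theorem rc_one_left (b : G) : rc 1 b = 1 := by unfold rc; group
theorem rc_one_right (a : G) : rc a 1 = 1 := by unfold rc; group
theorem rc_self (a : G) : rc a a = 1 := by unfold rc; group

/-- `rc (a b) g = b⁻¹ (rc a g) b (rc b g)` -/
theorem rc_mul_left (a b g : G) : rc (a * b) g = b⁻¹ * rc a g * b * rc b g := by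
  unfold rc; group

/-- `rc a (g h) = (rc a h) h⁻¹ (rc a g) h` -/
theorem rc_mul_right (a g h : G) : rc a (g * h) = rc a h * (h⁻¹ * rc a g * h) := by
  unfold rc; group

theorem rc_inv_symm (a b : G) : (rc a b)⁻¹ = rc b a := by
  unfold rc; group

/-- if `b` commutes with `rc a g` then `rc (a b) g = rc a g * rc b g` -/
theorem rc_mul_left_of_commute (a b g : G) (h : Commute b (rc a g)) :
    rc (a * b) g = rc a g * rc b g := by
  rw [rc_mul_left]
  have : b⁻¹ * rc a g * b = rc a g := by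
    rw [mul_assoc, ← h.eq, ← mul_assoc, inv_mul_cancel, one_mul]
  rw [this]

/-- if `a` commutes with `rc a g` then `rc (a^j) g = (rc a g)^j` -/
theorem rc_pow_left_of_commute (a g : G) (h : Commute a (rc a g)) (j : ℕ) :
    rc (a ^ j) g = rc a g ^ j := by
  have key : g⁻¹ * a ^ j * g = a ^ j * rc a g ^ j := by
    have h1 : g⁻¹ * a ^ j * g = (g⁻¹ * a * g) ^ j := by
      have := map_pow (MulAut.conj g⁻¹) a j
      simpa [MulAut.conj_apply] using this
    rw [h1, conj_eq, h.mul_pow]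
  calc rc (a ^ j) g = (a ^ j)⁻¹ * (g⁻¹ * a ^ j * g) := by unfold rc; group
    _ = rc a g ^ j := by rw [key]; group

/-- Setting S of the plan. -/
structure Base (p : ℕ) (E : Subgroup G) (z₀ : G) : Prop where
  hp2 : p ≠ 2
  pG : IsPGroup p G
  rk : Cfsg.PRankLE p 2 G
  nE : E.Normal
  cE : ∀ a ∈ E, ∀ b ∈ E, a * b = b * a
  eE : ∀ a ∈ E, a ^ p = 1
  cardE : Nat.card E = p ^ 2
  z₀E : z₀ ∈ E
  z₀c : z₀ ∈ Subgroup.center G
  z₀o : orderOf z₀ = p
  cent : ∀ e ∈ E, e ∈ Subgroup.center G → e ∈ Subgroup.zpowers z₀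

/-- the relations of the family F2 with parameter `σ`, where `m = n - 3` -/
def F2Rel (p m σ : ℕ) (x y z : G) : Prop :=
  x ^ p = 1 ∧ y ^ p = 1 ∧ z ^ p ^ (m + 1) = 1 ∧ y * z = z * y ∧
    x⁻¹ * y * x = y * z ^ (σ * p ^ m) ∧ x⁻¹ * z * x = y * z

end

end Cfsg.Agent.Lib.Helper18.BLK
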