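import Mathlib
import Cfsg.Agent.Lib.Helper18.BLK.Defs
import Cfsg.Agent.Lib.Helper20.HupM
import Cfsg.Agent.Lib.helper6.BLKMC0
import Cfsg.Agent.Lib.helper6.BLKAI
import Cfsg.Agent.Lib.helper6.BLKAE
import Cfsg.Agent.Lib.helper6.BLKAT
import Cfsg.Agent.Lib.Helper13.BLKR
import Cfsg.Agent.Lib.Helper13.BLKR2b
import Cfsg.Agent.Lib.Helper13.BLKAQ
import Cfsg.Agent.Lib.Helper22.BLKR2a
import Cfsg.Agent.Lib.Helper22.BLKA1x
import Cfsg.Agent.Lib.Helper18.BLKA2x

/-!
# Project BLK : Lemma A (assembly)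

`p` odd, `P` a finite `p`-group all of whose elements of order dividing `p` lie in a central subgroup
of order at most `p²`. Then `P` is metacyclic (`metacyclic_of_central_omega`), and `x ^ p ∈ E`
implies `rc x g ∈ E` (`rc_mem_of_pow_mem`).
-/

set_option autoImplicit false

namespace Cfsg.Agent.Lib.Helper18.BLK

universe u

/-- Lemma R2 (assembly). -/
theorem metacyclic_of_cyclic_commutator {P : Type u} [Group P] [Finite P] {p : ℕ} [Fact p.Prime]
    (hp2 : p ≠ 2) (hP : IsPGroup p P) (hc : IsCyclic (commutator P)) (E : Subgroup P)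
    (hE : Nat.card E ≤ p ^ 2) (hTE : ∀ x : P, x ^ p = 1 → x ∈ E) : Cfsg.IsMetacyclic P := by
  obtain ⟨V, hVn, hV1, hV2, hVi⟩ :=
    exists_agemo (regular_of_cyclic_commutator hp2 hP hc) E hE hTE
  exact metacyclic_of_agemo hp2 hP hc E hE hTE V hVn hV1 hV2 hVi

/-- Lemma A (assembly): `p` odd, all elements of order `p` in a central subgroup of order `≤ p²`
⇒ metacyclic. -/
theorem metacyclic_of_central_omega {p : ℕ} [Fact p.Prime] (hp2 : p ≠ 2) :
    ∀ (n : ℕ) (P : Type u) [Group P] [Finite P], Nat.card P = n → IsPGroup p P →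
      ∀ E : Subgroup P, E ≤ Subgroup.center P → Nat.card E ≤ p ^ 2 →
        (∀ x : P, x ^ p = 1 → x ∈ E) → Cfsg.IsMetacyclic P := by
  intro n
  induction n using Nat.strong_induction_on with
  | _ n IH =>
  intro P _ _ hn hP E0 hE0c hE0 hTE0
  obtain ⟨E, hEc, hE, hEe, hTE⟩ := exists_exp_part E0 hE0c hE0 hTE0
  have ih : ∀ H : Subgroup P, H ≠ ⊤ → Cfsg.IsMetacyclic H := by
    intro H hH
    obtain ⟨h1, h2, h3⟩ := subgroup_hyp (p := p) E hEc hE hTE H
    have hlt : Nat.card H < n := by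
      rw [← hn]
      exact Cfsg.Agent.Lib.Helper20.Hup.card_lt_of_ne_top H hH
    exact IH _ hlt H rfl (hP.to_subgroup H) _ h1 h2 h3
  have h1 : ∀ x g : P, x ^ p ∈ E → rc x g ∈ E :=
    fun x g hx => rc_mem_of_pow_mem_aux hp2 hP E hEc hTE ih x g hx
  have hEn : E.Normal := ⟨fun e he g => by
    have := Subgroup.mem_center_iff.mp (hEc he) g
    rw [this, mul_inv_cancel_right]; exact he⟩
  by_cases hbot : E = ⊥
  · have : Subsingleton P := subsingleton_of_no_order_p hP (fun x hx => by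
      have := hTE x hx; rw [hbot] at this; exact Subgroup.mem_bot.mp this)
    exact metacyclic_of_cyclic (isCyclic_of_subsingleton)
  · obtain ⟨E', hE'c, hE', hTE'⟩ := quotient_hyp hp2 hP E hEc hE hEe hTE h1
    have hlt : Nat.card (P ⧸ E) < n := by
      rw [← hn, Subgroup.card_eq_card_quotient_mul_card_subgroup E]
      have h2 : 1 < Nat.card E := by
        rcases Nat.lt_or_ge 1 (Nat.card E) with h | h
        · exact h
        · exfalso; apply hbot
          have : Nat.card E = 1 := le_antisymm h Nat.card_pos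
          exact Subgroup.card_eq_one.mp this
      have h3 : 0 < Nat.card (P ⧸ E) := Nat.card_pos
      nlinarith
    have hQ : Cfsg.IsMetacyclic (P ⧸ E) :=
      IH _ hlt (P ⧸ E) rfl (hP.to_quotient E) E' hE'c hE' hTE'
    exact metacyclic_of_cyclic_commutator hp2 hP (cyclic_commutator_of_quotient E hEc hQ) E hE hTE

/-- Lemma A1 (assembly): Claim 1 without induction hypothesis. -/
theorem rc_mem_of_pow_mem {P : Type u} [Group P] [Finite P] {p : ℕ} [Fact p.Prime] (hp2 : p ≠ 2)
    (hP : IsPGroup p P) (E : Subgroup P) (hEc : E ≤ Subgroup.center P) (hE : Nat.card E ≤ p ^ 2)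
    (hTE : ∀ x : P, x ^ p = 1 → x ∈ E) (x g : P) (hx : x ^ p ∈ E) : rc x g ∈ E := by
  refine rc_mem_of_pow_mem_aux hp2 hP E hEc hTE ?_ x g hx
  intro H _
  obtain ⟨h1, h2, h3⟩ := subgroup_hyp (p := p) E hEc hE hTE H
  exact metacyclic_of_central_omega hp2 _ H rfl (hP.to_subgroup H) _ h1 h2 h3

end Cfsg.Agent.Lib.Helper18.BLK
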