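import Mathlib
import Cfsg.Agent.Lib.Helper18.BLK.LemmaA
import Cfsg.Agent.Lib.Helper18.BLKS567
import Cfsg.Agent.Lib.Helper18.BLKAL2q
import Cfsg.Agent.Lib.Helper18.BLKAL3b
import Cfsg.Agent.Lib.Helper24.NormalRank
import Cfsg.Agent.Lib.Helper20.HupM
import Cfsg.Agent.Lib.helper6.BLKMC0
import Cfsg.Agent.Lib.helper6.BLKSM
import Cfsg.Agent.Lib.helper6.BLKB4
import Cfsg.Agent.Lib.helper4.BLKSB
import Cfsg.Agent.Lib.helper4.BLKS1
import Cfsg.Agent.Lib.Helper20.BLKS0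
import Cfsg.Agent.Lib.Helper20.BLKAL3d
import Cfsg.Agent.Lib.Helper20.BLKB5d
import Cfsg.Agent.Lib.Helper29.BLKP3
import Cfsg.Agent.Lib.Helper29.BLKS4
import Cfsg.Agent.Lib.Helper29.BLKB5acore
import Cfsg.Agent.Lib.Helper1.BLKB1
import Cfsg.Agent.Lib.Helper1.BLKAL1
import Cfsg.Agent.Lib.Helper1.BLKAL2a
import Cfsg.Agent.Lib.Helper22.BLKB2
import Cfsg.Agent.Lib.Helper22.BLKB3
import Cfsg.Agent.Lib.Helper10.BLKNBD
import Cfsg.Agent.Lib.Helper10.BLKAL3c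
import Cfsg.Agent.Lib.Helper10.BLKF2N
import Cfsg.Agent.Lib.helper14.BLKB5ccore

/-!
# Project BLK : main assembly (`blk_main` = the statement of S3888)
-/

set_option autoImplicit false

namespace Cfsg.Agent.Lib.Helper18.BLK

universe u

/-- TOP1 (assembly): `E` central ⇒ `G` metacyclic. -/
theorem metacyclic_of_E_central {G : Type u} [Group G] [Finite G] {p : ℕ} [Fact p.Prime]
    (hp2 : p ≠ 2) (hG : IsPGroup p G) (hrk : Cfsg.PRankLE p 2 G) (E : Subgroup G)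
    (hE : Cfsg.IsElementaryAbelian p E) (hEc : Nat.card E = p ^ 2)
    (hcen : E ≤ Subgroup.center G) : Cfsg.IsMetacyclic G := by
  refine metacyclic_of_central_omega hp2 _ G rfl hG E hcen (le_of_eq hEc) ?_
  intro x hx
  refine mem_E_of_pow hrk E hE hEc x ?_ hx
  rw [Subgroup.mem_centralizer_iff]
  intro e he
  exact Subgroup.mem_center_iff.mp (hcen he) x |>.symm

/-- Case I (assembly). -/
theorem Base.metacyclic_of_alpha_I {G : Type u} [Group G] [Finite G] {p : ℕ} [Fact p.Prime]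
    {E : Subgroup G} {z₀ : G} (B : Base p E z₀) (u₁ : G)
    (hu : u₁ ∈ Subgroup.centralizer (E : Set G)) (hup : u₁ ^ p = z₀)
    (hα : ∀ g : G, rc u₁ g ∈ Subgroup.zpowers z₀) (hI : ∀ x : G, x ^ p = 1 → x ∈ E) :
    Cfsg.IsMetacyclic G := by
  have hZn : (Subgroup.zpowers z₀).Normal :=
    Cfsg.Agent.Lib.Helper20.Hup.zpowers_normal_of_center z₀ B.z₀c
  obtain ⟨E', h1, h2, h3⟩ := B.alpha_I_quotient_hyp u₁ hu hup hα
    (fun v hv => B.mem_C_of_pow_mem_Z u₁ hu hup hα hI v hv)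
  have hQ : Cfsg.IsMetacyclic (G ⧸ Subgroup.zpowers z₀) :=
    metacyclic_of_central_omega B.hp2 _ _ rfl (B.pG.to_quotient _) E' h1 h2 h3
  exact Cfsg.Agent.Lib.Helper20.Hup.lift_metacyclic p B.hp2 B.pG z₀ B.z₀c B.z₀o
    B.z₀_mem_commutator (Subgroup.zpowers z₀) rfl hQ E (le_of_eq B.cardE) hI

/-! ## Part 3 : the main assembly -/

/-- F2 conclusion from normalised data. -/
theorem F2_concl {G : Type*} [Group G] {p : ℕ} [Fact p.Prime] (hp2 : p ≠ 2) (n σ : ℕ) (hn4 : 4 ≤ n)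
    (hσ : ¬ p ∣ σ) (x y z : G) (hcl : Subgroup.closure ({x, y, z} : Set G) = ⊤)
    (h : F2Rel p (n - 3) σ x y z) :
    4 ≤ n ∧ ∃ (s : ℕ) (x y z : G), (s = 1 ∨ ¬ IsSquare (s : ZMod p)) ∧
        Subgroup.closure ({x, y, z} : Set G) = ⊤ ∧
        x ^ p = 1 ∧ y ^ p = 1 ∧ z ^ p ^ (n - 2) = 1 ∧ y * z = z * y ∧
        x⁻¹ * y * x = y * z ^ (s * p ^ (n - 3)) ∧ x⁻¹ * z * x = y * z := by
  obtain ⟨s, x', y', z', hs, hcl', h1, h2, h3, h4, h5, h6⟩ :=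
    F2_normalize hp2 (n - 3) σ (by omega) hσ x y z h
  refine ⟨hn4, s, x', y', z', hs, by rw [hcl', hcl], h1, h2, ?_, h4, h5, h6⟩
  have : n - 3 + 1 = n - 2 := by omega
  rw [← this]; exact h3

/-- the main theorem (assembly) -/
theorem blk_main {G : Type u} [Group G] [Finite G] {p : ℕ} [Fact p.Prime] (hp : p ≠ 2) (n : ℕ)
    (hG : Nat.card G = p ^ n) (hrk : Cfsg.PRankLE p 2 G) :
    Cfsg.IsMetacyclic G ∨
    (3 ≤ n ∧ ∃ x y z : G, Subgroup.closure ({x, y, z} : Set G) = ⊤ ∧ x ^ p = 1 ∧ y ^ p = 1 ∧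
        z ^ p ^ (n - 2) = 1 ∧ x * z = z * x ∧ y * z = z * y ∧ x⁻¹ * y * x = y * z ^ p ^ (n - 3)) ∨
    (4 ≤ n ∧ ∃ (s : ℕ) (x y z : G), (s = 1 ∨ ¬ IsSquare (s : ZMod p)) ∧
        Subgroup.closure ({x, y, z} : Set G) = ⊤ ∧
        x ^ p = 1 ∧ y ^ p = 1 ∧ z ^ p ^ (n - 2) = 1 ∧ y * z = z * y ∧
        x⁻¹ * y * x = y * z ^ (s * p ^ (n - 3)) ∧ x⁻¹ * z * x = y * z) ∨
    (p = 3 ∧ 2 ≤ n ∧ (⊤ : Subgroup G).lowerCentralSeries (n - 2) ≠ ⊥) := by
  have hpG : IsPGroup p G := IsPGroup.of_card hG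
  by_cases hcyc : IsCyclic G
  · exact Or.inl (metacyclic_of_cyclic hcyc)
  obtain ⟨E, hEn, hE, hEc⟩ := Cfsg.Agent.Lib.Helper24.nr_main hp hpG hcyc
  by_cases hcen : E ≤ Subgroup.center G
  · exact Or.inl (metacyclic_of_E_central hp hpG hrk E hE hEc hcen)
  obtain ⟨z₀, B⟩ := exists_base hp hpG hrk E hEn hE hEc hcen
  obtain ⟨hn3, hCE⟩ := B.card_facts n hG
  by_cases hn4 : 4 ≤ n
  swap
  · -- order p³
    have h3 : n = 3 := by omega
    subst h3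
    rcases B.card_cube hG with h | ⟨x, y, z, hcl, hx, hy, hz, hxz, hyz, hxy⟩
    · exact Or.inl h
    · refine Or.inr (Or.inl ⟨le_rfl, x, y, z, hcl, hx, hy, ?_, hxz, hyz, ?_⟩)
      · simpa using hz
      · simpa using hxy
  obtain ⟨u₁, hu, hup⟩ := B.exists_u1 (hCE hn4)
  by_cases hβ : ∃ g : G, rc u₁ g ∉ Subgroup.zpowers z₀
  · -- case (β)
    obtain ⟨g, hg, hgu⟩ := B.exists_outside u₁ hu hup hβ
    by_cases hp3 : p = 3
    · refine Or.inr (Or.inr (Or.inr ⟨hp3, by omega, ?_⟩))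
      exact lcs_ne_bot n hG hn3 g (B.card_centralizer g hg
        (fun c hc hcg => B.cent_C_eq_Z u₁ hu hup g hg hgu c hc hcg))
    · obtain ⟨x, hx, hxp, hxu⟩ := B.h29_exists_order_p_core u₁ hu hup hp3 g hg hgu
        (fun c hc hcg => B.cent_C_eq_Z u₁ hu hup g hg hgu c hc hcg)
      have hD : ∀ c ∈ Subgroup.centralizer (E : Set G), c ^ p ∈ E →
          c ^ p ∈ Subgroup.zpowers z₀ :=
        fun c hc hcE => B.no_big_D u₁ hu hup x hx hxp (Or.inl hp3) c hc hcE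
      have hC := B.blkb5c_core u₁ hu hup (fun c hc hcp => B.DZ_mem u₁ hu hup c hc hcp)
        (fun g => B.rc_u1_mem_E u₁ hu hup g) (fun j e he g => B.rc_DZ u₁ hu hup j e he g)
        x hx hxu hD
      obtain ⟨h4, σ, y, z, hσ, hcl, hrel⟩ := B.F2_of_beta u₁ hu hup n hG x hx hxp hxu hC
      subst h4
      exact Or.inr (Or.inr (Or.inl (F2_concl hp 4 σ le_rfl hσ x y z hcl hrel)))
  · -- case (α*)
    push Not at hβ
    by_cases hI : ∀ x : G, x ^ p = 1 → x ∈ E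
    · exact Or.inl (B.metacyclic_of_alpha_I u₁ hu hup hβ hI)
    · push Not at hI
      obtain ⟨x, hxp, hxE⟩ := hI
      have hx : x ∉ Subgroup.centralizer (E : Set G) :=
        fun hxC => hxE (mem_E_of_pow hrk E hE hEc x hxC hxp)
      have hD : ∀ c ∈ Subgroup.centralizer (E : Set G), c ^ p ∈ E →
          c ^ p ∈ Subgroup.zpowers z₀ :=
        fun c hc hcE => B.no_big_D u₁ hu hup x hx hxp (Or.inr (hβ x)) c hc hcE
      obtain ⟨c, hc, y, hy, hyz, hcz, hab, hgen⟩ := B.exists_c u₁ hu hup n hG hn4 hD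
      have hw := B.rc_c_mem_E u₁ hu hup hβ x hx hxp hD hab c y hc hy hgen
      rcases B.F_of_alpha_II n hG hn4 x hx hxp c y hc hy hyz hcz hab hgen hw with
        ⟨y', z', h⟩ | ⟨σ, y', z', hσ, hcl, hrel⟩
      · exact Or.inr (Or.inl ⟨hn3, x, y', z', h⟩)
      · exact Or.inr (Or.inr (Or.inl (F2_concl hp n σ hn4 hσ x y' z' hcl hrel)))

end Cfsg.Agent.Lib.Helper18.BLK
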